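import Groth.Agent.S0171
import Groth.Agent.CurveCd.Main

/-!
# Sheaves on curves vanishing at the generic points
-/

set_option autoImplicit false
set_option linter.style.haveILetI false
set_option backward.isDefEq.respectTransparency false
set_option backward.isDefEq.respectTransparency.types false

universe u

open CategoryTheory CategoryTheory.Limits AlgebraicGeometry Opposite

namespace Groth.Agent.CurveSupp

/-- On a scheme of dimension at most one a point that is not closed is maximal. -/
theorem eq_of_specializes_of_not_closed {C : Scheme.{u}} (hdim : topologicalKrullDim C ≤ 1) {x y : C}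
    (hx : ¬ IsClosed ({x} : Set C)) (hy : y ⤳ x) : y = x := by
  by_contra hne
  obtain ⟨z, hz, hzx⟩ : ∃ z, z ∈ closure ({x} : Set C) ∧ z ≠ x := by
    by_contra h
    push Not at h
    exact hx (closure_eq_iff_isClosed.1 (subset_antisymm (fun z hz => h z hz) subset_closure))
  let c (p : C) : TopologicalSpace.IrreducibleCloseds C :=
    ⟨closure {p}, isIrreducible_singleton.closure, isClosed_closure⟩
  have hlt : ∀ {p q : C}, q ⤳ p → q ≠ p → c p < c q := fun {p q} h hpq => by
    rw [← SetLike.coe_ssubset_coe]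
    refine ⟨(isClosed_closure.closure_subset_iff).2 (by simpa using specializes_iff_mem_closure.1 h), fun hle => ?_⟩
    exact hpq (h.antisymm (specializes_iff_mem_closure.2 (hle (subset_closure rfl)))).eq
  let s : LTSeries (TopologicalSpace.IrreducibleCloseds C) :=
    RelSeries.cons ((RelSeries.singleton _ (c y)).cons (c x) (hlt hy hne)) (c z)
      (by simp only [RelSeries.head_cons]; exact hlt (specializes_iff_mem_closure.2 hz) (Ne.symm hzx))
  have h2 : (2 : WithBot ℕ∞) ≤ topologicalKrullDim C := by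
    refine le_trans (le_of_eq ?_) (Order.LTSeries.length_le_krullDim s)
    simp only [s, RelSeries.cons_length, RelSeries.singleton_length]
    rfl
  exact absurd (h2.trans hdim) (by decide)

/-- Vanishing of higher cohomology. -/
theorem subsingleton_H {k : Type u} [Field k] [IsSepClosed k] {C : Scheme.{u}} (f : C ⟶ Spec (CommRingCat.of k))
    [LocallyOfFiniteType f] [QuasiCompact f] (hdim : topologicalKrullDim C ≤ 1) (F : EtCoh.Ab C)
    (hgen : ∀ (Ω : Type u) [Field Ω] [IsSepClosed Ω] (ξ : Spec (CommRingCat.of Ω) ⟶ C),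
      (∀ x ∈ Set.range ξ.base, ∀ y : C, y ⤳ x → y = x) → IsZero ((EtCoh.stalk ξ).obj F))
    (q : ℕ) (hq : 0 < q) : Subsingleton (EtCoh.H C F q) := by
  refine Groth.Agent.S0171.result C f F (fun x hx => ?_) q hq
  obtain ⟨Ω, _, _, ξ, hξ, hz⟩ := hx
  by_contra hc
  refine hz (hgen Ω ξ fun x' hx' => ?_)
  obtain rfl : x' = x := Set.mem_singleton_iff.1 (hξ ▸ hx')
  exact fun y hy => eq_of_specializes_of_not_closed hdim hc hy

end Groth.Agent.CurveSupp

namespace Groth.Agent.CurveSupp

open CategoryTheory.Abelian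

/-- A morphism which is bijective at the generic stalks is bijective on higher cohomology. -/
theorem bijective_H_map {k : Type u} [Field k] [IsSepClosed k] {C : Scheme.{u}} (f : C ⟶ Spec (CommRingCat.of k))
    [LocallyOfFiniteType f] [QuasiCompact f] (hdim : topologicalKrullDim C ≤ 1) {F G : EtCoh.Ab C} (φ : F ⟶ G)
    (hgen : ∀ (Ω : Type u) [Field Ω] [IsSepClosed Ω] (ξ : Spec (CommRingCat.of Ω) ⟶ C),
      (∀ x ∈ Set.range ξ.base, ∀ y : C, y ⤳ x → y = x) → IsIso ((EtCoh.stalk ξ).map φ))
    (q : ℕ) (hq : 0 < q) (h : 1 < q ∨ Epi φ) : Function.Bijective (Sheaf.H.map φ q) := by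
  have hK : ∀ i, 0 < i → Subsingleton (EtCoh.H C (kernel φ) i) := subsingleton_H f hdim _ fun Ω _ _ ξ hξ => by
    haveI := hgen Ω ξ hξ
    refine IsZero.of_mono_eq_zero ((EtCoh.stalk ξ).map (kernel.ι φ)) ?_
    rw [← cancel_mono ((EtCoh.stalk ξ).map φ), zero_comp, ← Functor.map_comp, kernel.condition, Functor.map_zero]
  have hQ : ∀ i, 0 < i → Subsingleton (EtCoh.H C (cokernel φ) i) := subsingleton_H f hdim _ fun Ω _ _ ξ hξ => by
    haveI := hgen Ω ξ hξ
    refine IsZero.of_epi_eq_zero ((EtCoh.stalk ξ).map (cokernel.π φ)) ?_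
    rw [← cancel_epi ((EtCoh.stalk ξ).map φ), comp_zero, ← Functor.map_comp, cokernel.condition, Functor.map_zero]
  let p := Abelian.factorThruImage φ
  let i := Abelian.image.ι φ
  let S := ShortComplex.mk (kernel.ι φ) p (by
    rw [← cancel_mono i, Category.assoc, Abelian.image.fac, kernel.condition, zero_comp])
  have hS : S.ShortExact :=
    { exact := ShortComplex.exact_of_f_is_kernel _ (KernelFork.IsLimit.ofι' _ _ fun {A} g hg =>
        ⟨kernel.lift φ g (by
          have hg' : g ≫ p = 0 := hg
          rw [← Abelian.image.fac φ, ← Category.assoc, hg', zero_comp]), kernel.lift_ι _ _ _⟩) }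
  let T := ShortComplex.mk i (cokernel.π φ) (kernel.condition _)
  have hT : T.ShortExact :=
    { exact := ShortComplex.exact_of_f_is_kernel _ (kernelIsKernel _) }
  have hp : Function.Bijective (Sheaf.H.map p q) := by
    refine ⟨(injective_iff_map_eq_zero _).2 fun x hx => ?_, fun y => ?_⟩
    · obtain ⟨z, rfl⟩ := Ext.covariant_sequence_exact₂ _ hS x hx
      haveI := hK q hq
      rw [Subsingleton.elim z 0, Ext.zero_comp]
    · haveI := hK (q + 1) (by omega)
      obtain ⟨z, hz⟩ := Ext.covariant_sequence_exact₃ _ hS y (rfl : q + 1 = q + 1) (Subsingleton.elim _ _)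
      exact ⟨z, hz⟩
  have hi : Function.Bijective (Sheaf.H.map i q) := by
    refine ⟨(injective_iff_map_eq_zero _).2 fun x hx => ?_, fun y => ?_⟩
    · obtain ⟨j, rfl⟩ : ∃ j, q = j + 1 := ⟨q - 1, by omega⟩
      obtain ⟨z, rfl⟩ := Ext.covariant_sequence_exact₁ _ hT x hx (rfl : j + 1 = j + 1)
      suffices hz : z = 0 by rw [hz, Ext.zero_comp]
      rcases h with h | h
      · haveI := hQ j (by omega)
        exact Subsingleton.elim _ _
      · haveI := h
        have h0 : 𝟙 T.X₃ = 0 := (isZero_cokernel_of_epi φ).eq_of_src _ _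
        rw [← Ext.comp_mk₀_id z, h0, Ext.mk₀_zero, Ext.comp_zero]
    · haveI := hQ q hq
      obtain ⟨z, hz⟩ := Ext.covariant_sequence_exact₂ _ hT y (Subsingleton.elim _ _)
      exact ⟨z, hz⟩
  have he : ⇑(Sheaf.H.map φ q) = Sheaf.H.map i q ∘ Sheaf.H.map p q := funext fun x => by
    rw [Function.comp_apply, ← Sheaf.H.map_comp_apply, Abelian.image.fac]
  rw [he]
  exact hi.comp hp

end Groth.Agent.CurveSupp
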